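import Cfsg.Agent.Lib.Ind.Brauer
import Cfsg.Agent.Lib.Char.More

/-!
# The Brauer lift of a modular representation is a generalized character
-/

set_option autoImplicit false

namespace Cfsg.Agent.DG

open Cfsg Cfsg.Agent.Char Cfsg.Agent.Ind Polynomial Module
open scoped ComplexConjugate

universe u

section Charpoly

variable {K : Type*} [Field K]

theorem charpoly_quot {V : Type*} [AddCommGroup V] [Module K V] [FiniteDimensional K V]
    (W : Submodule K V) (e : V →ₗ[K] V) (he : W ≤ W.comap e) :
    e.charpoly = (e.restrict he).charpoly * (W.mapQ W e he).charpoly := by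
  classical
  let m := Module.Free.ChooseBasisIndex K W
  let bW : Basis m K W := Module.Free.chooseBasis K W
  let n := Module.Free.ChooseBasisIndex K (V ⧸ W)
  let bQ : Basis n K (V ⧸ W) := Module.Free.chooseBasis K (V ⧸ W)
  let b := Basis.sumQuot bW bQ
  let A : Matrix m m K := LinearMap.toMatrix bW bW (e.restrict he)
  let B : Matrix m n K := Matrix.of fun i l ↦
    ((Basis.sumQuot bW bQ).repr (e ((Basis.sumQuot bW bQ) (Sum.inr l)))) (Sum.inl i)
  let D : Matrix n n K := LinearMap.toMatrix bQ bQ (W.mapQ W e he)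
  suffices LinearMap.toMatrix b b e = Matrix.fromBlocks A B 0 D by
    rw [← LinearMap.charpoly_toMatrix e b, this, ← LinearMap.charpoly_toMatrix _ bW,
      ← LinearMap.charpoly_toMatrix _ bQ, Matrix.charpoly_fromBlocks_zero₂₁]
  ext u v
  cases u with
  | inl i =>
    cases v with
    | inl k =>
      simp only [b, Basis.sumQuot_inl, Matrix.fromBlocks_apply₁₁, A, LinearMap.toMatrix_apply]
      apply Basis.sumQuot_repr_inl_of_mem
    | inr l => simp [b, LinearMap.toMatrix_apply, Matrix.fromBlocks_apply₁₂, B]
  | inr j =>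
    cases v with
    | inl k =>
      suffices W.mkQ (e (bW k)) = 0 by simp [LinearMap.toMatrix_apply, b, this]
      rw [← LinearMap.mem_ker, Submodule.ker_mkQ]
      exact he (Submodule.coe_mem (bW k))
    | inr l =>
      simp only [LinearMap.toMatrix_apply, Basis.sumQuot_repr_inr,
        Matrix.fromBlocks_apply₂₂, b, D]
      rw [← Basis.sumQuot_inr bW bQ l, W.mapQ_apply]
      simp

theorem charpoly_eq_of_equiv {V W : Type*} [AddCommGroup V] [Module K V] [FiniteDimensional K V]
    [AddCommGroup W] [Module K W] [FiniteDimensional K W] (e : V ≃ₗ[K] W) {f : End K V}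
    {g : End K W} (h : ∀ v, e (f v) = g (e v)) : f.charpoly = g.charpoly := by
  rw [← e.charpoly_conj f]
  congr 1
  ext w
  simp [LinearEquiv.conj_apply, h]

/-- Multiplicativity of the characteristic polynomial on short exact sequences. -/
theorem charpoly_exact {V W Q : Type*} [AddCommGroup V] [Module K V] [FiniteDimensional K V]
    [AddCommGroup W] [Module K W] [FiniteDimensional K W]
    [AddCommGroup Q] [Module K Q] [FiniteDimensional K Q]
    (i : W →ₗ[K] V) (π : V →ₗ[K] Q) (hi : Function.Injective i) (hπ : Function.Surjective π)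
    (hex : LinearMap.ker π = LinearMap.range i) {f : End K V} {f₁ : End K W} {f₂ : End K Q}
    (h₁ : ∀ w, f (i w) = i (f₁ w)) (h₂ : ∀ v, π (f v) = f₂ (π v)) :
    f.charpoly = f₁.charpoly * f₂.charpoly := by
  have he : LinearMap.ker π ≤ (LinearMap.ker π).comap f := fun v hv => by
    simp only [Submodule.mem_comap, LinearMap.mem_ker] at hv ⊢
    rw [h₂, hv, map_zero]
  rw [charpoly_quot _ f he]
  congr 1
  · refine (charpoly_eq_of_equiv
      ((LinearEquiv.ofInjective i hi).trans (LinearEquiv.ofEq _ _ hex.symm)) fun w => ?_).symm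
    ext
    simp [h₁, LinearMap.restrict_apply]
  · refine charpoly_eq_of_equiv (π.quotKerEquivOfSurjective hπ) fun v => ?_
    obtain ⟨v, rfl⟩ := Submodule.Quotient.mk_surjective _ v
    simp [Submodule.mapQ_apply, h₂]

theorem charpoly_smul_one {V : Type*} [AddCommGroup V] [Module K V] [FiniteDimensional K V]
    (c : K) : LinearMap.charpoly (c • (1 : End K V)) = (X - C c) ^ finrank K V := by
  have h := LinearMap.charpoly_sub_smul (0 : End K V) (-c)
  simpa [sub_eq_add_neg] using h

theorem aeval_semiconj {V W : Type*} [AddCommGroup V] [Module K V] [AddCommGroup W] [Module K W]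
    (π : V →ₗ[K] W) {f : End K V} {g : End K W} (h : ∀ v, π (f v) = g (π v)) (p : K[X]) (v : V) :
    π (aeval f p v) = aeval g p (π v) := by
  induction p using Polynomial.induction_on' generalizing v with
  | add p q hp hq => simp [hp, hq]
  | monomial n a =>
    simp only [aeval_monomial, Module.End.mul_apply, Module.algebraMap_end_apply, map_smul]
    congr 1
    induction n generalizing v with
    | zero => simp
    | succ n ih => rw [pow_succ, pow_succ, Module.End.mul_apply, Module.End.mul_apply, ih, h]

theorem roots_charpoly_aeval_aux [IsAlgClosed K] (p : K[X]) (n : ℕ) :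
    ∀ (V : Type u) [AddCommGroup V] [Module K V] [FiniteDimensional K V], finrank K V = n →
      ∀ f : End K V, (LinearMap.charpoly (aeval f p)).roots =
        f.charpoly.roots.map fun x => p.eval x := by
  induction n with
  | zero =>
    intro V _ _ _ hV f
    have h : ∀ g : End K V, g.charpoly = 1 := fun g =>
      (LinearMap.charpoly_monic g).natDegree_eq_zero.1 (by rw [LinearMap.charpoly_natDegree, hV])
    simp [h]
  | succ n ih =>
    intro V _ _ _ hV f
    have : Nontrivial V := Module.nontrivial_of_finrank_eq_succ hV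
    obtain ⟨x, hx⟩ := Module.End.exists_eigenvalue f
    obtain ⟨v, hv⟩ := hx.exists_hasEigenvector
    let i : K →ₗ[K] V := LinearMap.toSpanSingleton K V v
    have hi : Function.Injective i := fun a b h => smul_left_injective K hv.2 (by simpa [i] using h)
    have h₁ : ∀ c, f (i c) = i ((x • (1 : End K K)) c) := fun c => by
      simp [i, hv.apply_eq_smul, smul_smul, mul_comm]
    have he : LinearMap.range i ≤ (LinearMap.range i).comap f := by
      rintro _ ⟨c, rfl⟩
      exact ⟨_, (h₁ c).symm⟩
    let f₂ := (LinearMap.range i).mapQ _ f he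
    have h₂ : ∀ v, (LinearMap.range i).mkQ (f v) = f₂ ((LinearMap.range i).mkQ v) := fun v => rfl
    have hq : finrank K (V ⧸ LinearMap.range i) = n := by
      have := (LinearMap.range i).finrank_quotient_add_finrank
      rw [LinearMap.finrank_range_of_inj hi, finrank_self] at this
      omega
    have e1 := charpoly_exact i _ hi (Submodule.mkQ_surjective _) (Submodule.ker_mkQ _) h₁ h₂
    have e2 := charpoly_exact i _ hi (Submodule.mkQ_surjective _) (Submodule.ker_mkQ _)
      (f := aeval f p) (f₁ := p.eval x • (1 : End K K)) (f₂ := aeval f₂ p)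
      (fun c => by
        rw [← aeval_semiconj i (fun c => (h₁ c).symm) p c]
        congr 1
        rw [← Algebra.algebraMap_eq_smul_one, ← Algebra.algebraMap_eq_smul_one,
          aeval_algebraMap_apply_eq_algebraMap_eval])
      (fun v => aeval_semiconj _ h₂ p v)
    rw [e1, e2, charpoly_smul_one, charpoly_smul_one, finrank_self, pow_one, pow_one,
      roots_mul (mul_ne_zero (X_sub_C_ne_zero _) (LinearMap.charpoly_monic _).ne_zero),
      roots_mul (mul_ne_zero (X_sub_C_ne_zero _) (LinearMap.charpoly_monic _).ne_zero),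
      ih _ hq, roots_X_sub_C, roots_X_sub_C]
    simp

theorem roots_charpoly_aeval [IsAlgClosed K] {V : Type*} [AddCommGroup V] [Module K V]
    [FiniteDimensional K V] (p : K[X]) (f : End K V) :
    (LinearMap.charpoly (aeval f p)).roots = f.charpoly.roots.map fun x => p.eval x :=
  roots_charpoly_aeval_aux p _ V rfl f

theorem roots_charpoly_smul [IsAlgClosed K] {V : Type*} [AddCommGroup V] [Module K V]
    [FiniteDimensional K V] (c : K) (f : End K V) :
    (LinearMap.charpoly (c • f)).roots = f.charpoly.roots.map fun x => c * x := by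
  have h := roots_charpoly_aeval (C c * X) f
  rw [map_mul, aeval_C, aeval_X, ← Algebra.smul_def] at h
  rw [h]
  simp

theorem roots_charpoly_mul_self [IsAlgClosed K] {V : Type*} [AddCommGroup V] [Module K V]
    [FiniteDimensional K V] (f : End K V) :
    (LinearMap.charpoly (f * f)).roots = f.charpoly.roots.map fun x => x * x := by
  have h := roots_charpoly_aeval (X * X) f
  rw [map_mul, aeval_X] at h
  rw [h]
  simp

theorem pow_eq_one_of_mem_roots {V : Type*} [AddCommGroup V] [Module K V]
    [FiniteDimensional K V] {f : End K V} {N : ℕ} (hf : f ^ N = 1) {x : K}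
    (hx : x ∈ f.charpoly.roots) : x ^ N = 1 := by
  have h := (Module.End.hasEigenvalue_iff_isRoot_charpoly f x).2 (isRoot_of_mem_roots hx)
  obtain ⟨v, hv⟩ := h.exists_hasEigenvector
  have := hv.pow_apply N
  rw [hf, Module.End.one_apply] at this
  exact smul_left_injective K hv.2 (by simpa using this.symm)

end Charpoly

/-- `w` is multiplicative and faithful on the `N`-th roots of unity. -/
structure Wt {K : Type*} [Field K] (N : ℕ) (w : K → ℂ) : Prop where
  one : w 1 = 1
  mul : ∀ x y, x ^ N = 1 → y ^ N = 1 → w (x * y) = w x * w y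
  inj : ∀ x, x ^ N = 1 → w x = 1 → x = 1

theorem exists_wt (K : Type*) [Field K] {N : ℕ} (hN : N ≠ 0) : ∃ w : K → ℂ, Wt N w := by
  classical
  have : NeZero N := ⟨hN⟩
  obtain ⟨φ, hφ⟩ : ∃ φ : rootsOfUnity N K →* ℂˣ, Function.Injective φ := by
    let d := Nat.card (rootsOfUnity N K)
    have hd : d ≠ 0 := Nat.card_pos.ne'
    have : NeZero d := ⟨hd⟩
    have hc : Nat.card (rootsOfUnity N K) = Nat.card (rootsOfUnity d ℂ) := by
      rw [Complex.card_rootsOfUnity]
    let e := mulEquivOfCyclicCardEq hc
    exact ⟨(rootsOfUnity d ℂ).subtype.comp e.toMonoidHom,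
      (rootsOfUnity d ℂ).subtype_injective.comp e.injective⟩
  refine ⟨fun x => if h : x ^ N = 1 then (φ (rootsOfUnity.mkOfPowEq x h) : ℂ) else 0, ?_, ?_, ?_⟩
  · rw [dif_pos (one_pow N)]
    have : rootsOfUnity.mkOfPowEq (1 : K) (one_pow N) = 1 := by ext; simp
    rw [this, map_one, Units.val_one]
  · intro x y hx hy
    have hxy : (x * y) ^ N = 1 := by rw [mul_pow, hx, hy, one_mul]
    rw [dif_pos hx, dif_pos hy, dif_pos hxy, ← Units.val_mul, ← map_mul]
    congr 2
    ext; simp
  · intro x hx h
    rw [dif_pos hx, Units.val_eq_one, ← map_one φ] at h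
    have := congrArg (fun y : rootsOfUnity N K => ((y : Kˣ) : K)) (hφ h)
    simpa using this

/-- The sum of `w` over the roots of `f`. -/
noncomputable def bt {K : Type*} [Field K] (w : K → ℂ) (f : K[X]) : ℂ := (f.roots.map w).sum

theorem bt_mul {K : Type*} [Field K] (w : K → ℂ) {f g : K[X]} (hf : f ≠ 0) (hg : g ≠ 0) :
    bt w (f * g) = bt w f + bt w g := by
  simp [bt, roots_mul (mul_ne_zero hf hg)]

section Lift

variable {K : Type*} [Field K] [IsAlgClosed K] {N : ℕ} {w : K → ℂ}

theorem bt_smul (hw : Wt N w) {V : Type*} [AddCommGroup V] [Module K V] [FiniteDimensional K V]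
    {f : End K V} (hf : f ^ N = 1) {c : K} (hc : c ^ N = 1) :
    bt w (LinearMap.charpoly (c • f)) = w c * bt w f.charpoly := by
  rw [bt, bt, roots_charpoly_smul, Multiset.map_map, ← Multiset.sum_map_mul_left]
  congr 1
  exact Multiset.map_congr rfl fun x hx => hw.mul _ _ hc (pow_eq_one_of_mem_roots hf hx)

theorem inner_irr_int (hw : Wt N w) {E : Type*} [Group E] [Fintype E] [Group.IsNilpotent E]
    (hN : ∀ e : E, e ^ N = 1) (lam : E →* ℂˣ) {V : Type*} [AddCommGroup V] [Module K V]
    [FiniteDimensional K V] (ρ : Representation K E V) [ρ.IsIrreducible] :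
    ∃ m : ℤ, classInner (fun e => bt w (ρ e).charpoly) (fun e => (lam e : ℂ)) = m := by
  have hV : Nontrivial V := nontrivial_of_isIrreducible ρ
  by_cases h0 : ∑ e, bt w (ρ e).charpoly * conj (lam e : ℂ) = 0
  · exact ⟨0, by simp [classInner, h0]⟩
  have hρN : ∀ e, ρ e ^ N = 1 := fun e => by rw [← map_pow, hN, map_one]
  have hcN : ∀ z (c : K), ρ z = c • (1 : End K V) → c ^ N = 1 := fun z c h => by
    have h1 := hρN z
    rw [h, _root_.smul_pow, one_pow] at h1
    obtain ⟨v, hv⟩ := exists_ne (0 : V)
    have := LinearMap.congr_fun h1 v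
    exact smul_left_injective K hv (by simpa using this)
  have hl : ∀ e, conj (lam e : ℂ) * lam e = 1 := fun e => by
    have h := inv_mul_cancel₀ (lam e).ne_zero
    have h2 := apply_inv_of_isChar (isChar_of_isIrr (isIrr_unitsHom lam)) e
    simp only [map_inv, Units.val_inv_eq_inv_val] at h2
    rwa [← h2]
  have key : ∀ z (c : K), ρ z = c • (1 : End K V) → w c = lam z := fun z c h => by
    have h1 : ∑ e, bt w (ρ e).charpoly * conj (lam e : ℂ) =
        (w c * conj (lam z : ℂ)) * ∑ e, bt w (ρ e).charpoly * conj (lam e : ℂ) := by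
      rw [Finset.mul_sum, ← Equiv.sum_comp (Equiv.mulLeft z)]
      refine Finset.sum_congr rfl fun e _ => ?_
      simp only [Equiv.coe_mulLeft, map_mul, h, smul_mul_assoc, one_mul, Units.val_mul]
      rw [bt_smul hw (hρN e) (hcN z c h)]
      ring
    have h2 : w c * conj (lam z : ℂ) = 1 := by
      have := mul_right_cancel₀ h0 ((one_mul _).trans h1)
      exact this.symm
    calc w c = w c * (conj (lam z : ℂ) * lam z) := by rw [hl, mul_one]
      _ = lam z := by rw [← mul_assoc, h2, one_mul]
  have hall : ∀ n, ∀ z ∈ Subgroup.upperCentralSeries E n, ∃ c : K, ρ z = c • (1 : End K V) := by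
    intro n
    induction n with
    | zero =>
      intro z hz
      rw [Subgroup.upperCentralSeries_zero, Subgroup.mem_bot] at hz
      exact ⟨1, by simp [hz]⟩
    | succ n ih =>
      intro z hz
      refine exists_eq_smul_of_comm ρ _ fun y => ?_
      obtain ⟨c, hc⟩ := ih _ (Subgroup.mem_upperCentralSeries_succ_iff.1 hz y)
      rw [commutatorElement_def] at hc
      have h1 := key _ c hc
      have h2 : lam (z * y * z⁻¹ * y⁻¹) = 1 := by
        simp only [map_mul, map_inv]
        rw [mul_comm (lam z), mul_inv_cancel_right, mul_inv_cancel]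
      rw [h2, Units.val_one] at h1
      rw [hw.inj c (hcN _ c hc) h1, one_smul] at hc
      have h3 : z * y = (z * y * z⁻¹ * y⁻¹) * (y * z) := by group
      rw [← map_mul, ← map_mul, h3, map_mul, hc, one_mul]
  obtain ⟨n, hn⟩ := Group.IsNilpotent.nilpotent E
  refine ⟨finrank K V, ?_⟩
  have h4 : ∀ e, bt w (ρ e).charpoly * conj (lam e : ℂ) = finrank K V := fun e => by
    obtain ⟨c, hc⟩ := hall n e (hn ▸ Subgroup.mem_top e)
    rw [hc, charpoly_smul_one, bt, roots_pow, roots_X_sub_C, Multiset.nsmul_singleton,
      Multiset.map_replicate, Multiset.sum_replicate, key e c hc, nsmul_eq_mul, mul_assoc,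
      mul_comm (lam e : ℂ), hl, mul_one]
  simp only [classInner, h4, Finset.sum_const, Finset.card_univ, nsmul_eq_mul]
  rw [Nat.card_eq_fintype_card, ← mul_assoc, inv_mul_cancel₀ (by simp), one_mul]
  simp

theorem inner_int_aux (hw : Wt N w) {E : Type*} [Group E] [Fintype E] [Group.IsNilpotent E]
    (hN : ∀ e : E, e ^ N = 1) (lam : E →* ℂˣ) (n : ℕ) :
    ∀ (V : Type u) [AddCommGroup V] [Module K V] [FiniteDimensional K V]
      (ρ : Representation K E V), finrank K V = n →
      ∃ m : ℤ, classInner (fun e => bt w (ρ e).charpoly) (fun e => (lam e : ℂ)) = m := by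
  induction n using Nat.strong_induction_on with
  | _ n ih =>
    intro V _ _ _ ρ hV
    by_cases hirr : ρ.IsIrreducible
    · exact inner_irr_int hw hN lam ρ
    rcases subsingleton_or_nontrivial V with hs | hs
    · have h : ∀ g : End K V, g.charpoly = 1 := fun g =>
        (LinearMap.charpoly_monic g).natDegree_eq_zero.1
          (by rw [LinearMap.charpoly_natDegree, finrank_zero_of_subsingleton])
      exact ⟨0, by simp [classInner, h, bt]⟩
    rw [isIrreducible_iff] at hirr
    push Not at hirr
    obtain ⟨U, hU, hb, ht⟩ := hirr hs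
    have hU' : ∀ g, U ≤ U.comap (ρ g) := fun g v hv => hU g v hv
    have h1 : finrank K U < n := hV ▸ Submodule.finrank_lt ht
    have h2 : finrank K (V ⧸ U) < n := by
      have := U.finrank_quotient_add_finrank
      have h3 : finrank K U ≠ 0 := fun h => hb (Submodule.finrank_eq_zero.1 h)
      omega
    obtain ⟨a, ha⟩ := ih _ h1 U (ρ.subrepresentation U hU') rfl
    obtain ⟨b, hb⟩ := ih _ h2 (V ⧸ U) (ρ.quotient U hU') rfl
    refine ⟨a + b, ?_⟩
    rw [Int.cast_add, ← ha, ← hb, ← Char.inner_add_left]
    congr 1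
    funext e
    rw [charpoly_quot U (ρ e) (hU' e), bt_mul w (LinearMap.charpoly_monic _).ne_zero
      (LinearMap.charpoly_monic _).ne_zero]
    rfl

/-- The Brauer lift is a generalized character. -/
theorem isGen_bt (hw : Wt N w) {G : Type*} [Group G] [Finite G] (hN : ∀ g : G, g ^ N = 1)
    {V : Type*} [AddCommGroup V] [Module K V] [FiniteDimensional K V]
    (ρ : Representation K G V) : IsGeneralizedCharacter G (fun g => bt w (ρ g).charpoly) := by
  have := Fintype.ofFinite G
  have hc : IsClassFunction G (fun g => bt w (ρ g).charpoly) := fun g h => by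
    refine congrArg (bt w) ?_
    refine (charpoly_eq_of_equiv (LinearEquiv.ofLinearMap (ρ h) (ρ h⁻¹) ?_ ?_) fun v => ?_).symm
    · rw [← Module.End.mul_eq_comp, ← map_mul, mul_inv_cancel, map_one]; rfl
    · rw [← Module.End.mul_eq_comp, ← map_mul, inv_mul_cancel, map_one]; rfl
    · change ρ h (ρ g v) = ρ (h * g * h⁻¹) (ρ h v)
      rw [← Module.End.mul_apply, ← Module.End.mul_apply, ← map_mul, ← map_mul,
        inv_mul_cancel_right]
  refine isGen_of_inner_int hc fun χ => ?_
  have := inner_mem_of_elementary (Int.castAddHom ℂ).range hc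
    (fun E _ p hp hE lam => by
      have := isNilpotent_of_isElementary hp hE
      obtain ⟨m, hm⟩ := inner_int_aux hw (E := E)
        (fun e => Subtype.ext (by simpa using hN e)) lam _ V (ρ.comp E.subtype) rfl
      exact ⟨m, hm.symm⟩) (isGen_of_isIrr χ.2)
  obtain ⟨m, hm⟩ := this
  exact ⟨m, hm.symm⟩

/-- The Brauer lift for the square of a faithful weight. -/
theorem isGen_bt_sq (hw : Wt N w) {G : Type*} [Group G] [Finite G] (hN : ∀ g : G, g ^ N = 1)
    {V : Type*} [AddCommGroup V] [Module K V] [FiniteDimensional K V]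
    (ρ : Representation K G V) :
    IsGeneralizedCharacter G (fun g => bt (fun x => w (x * x)) (ρ g).charpoly) := by
  obtain ⟨a, b, ha, hb, hab⟩ := isGen_bt hw hN ρ
  have h := isGen_sub (isGen_sq ha) (isGen_sq hb)
  convert h using 1
  funext g
  have := congrFun hab (g * g)
  simp only [Pi.sub_apply] at this ⊢
  rw [← this, map_mul, bt, bt, roots_charpoly_mul_self, Multiset.map_map]
  rfl

end Lift

end Cfsg.Agent.DG
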